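import Groth.Agent.Lib.FlatModel.Stage
import Groth.Agent.Lib.FibreFlat.OpenNoetherian
import Mathlib.RingTheory.TensorProduct.Quotient
import Mathlib.RingTheory.TensorProduct.MvPolynomial
import Mathlib.RingTheory.Flat.Localization
import Mathlib.Algebra.Module.Torsion.Basic

/-!
# A flat model over a ring of finite type over `ℤ` (EGA IV 11.2.7)
-/

universe u

namespace GrothLib.FlatModel

open TensorProduct Function IsLocalRing MvPolynomial GrothLib.FlatStage GrothLib.FibreFlat

attribute [local instance] MvPolynomial.algebraMvPolynomial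

/-- A finitely presented module over `R[z]` is defined over any ring containing finitely many
given coefficients. -/
theorem exists_model' {R : Type u} [CommRing R] {m : ℕ} (M : Type u) [AddCommGroup M]
    [Module (MvPolynomial (Fin m) R) M] [Module.FinitePresentation (MvPolynomial (Fin m) R) M]
    {q : ℕ} (g : Fin q → MvPolynomial (Fin m) R) (hg : ∀ j, ∀ x : M, g j • x = 0) :
    ∃ T : Finset R, ∀ (R₀ : Type u) [CommRing R₀] [Algebra R₀ R],
      (T : Set R) ⊆ Set.range (algebraMap R₀ R) →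
      ∃ (r : ℕ) (N₀ : Submodule (MvPolynomial (Fin m) R₀) (Fin r → MvPolynomial (Fin m) R₀)),
        (∃ g₀ : Fin q → MvPolynomial (Fin m) R₀,
          (∀ j, MvPolynomial.map (algebraMap R₀ R) (g₀ j) = g j) ∧ ∀ (j : Fin q) (v : Fin r → MvPolynomial (Fin m) R₀), g₀ j • v ∈ N₀) ∧
        Nonempty (MvPolynomial (Fin m) R ⊗[MvPolynomial (Fin m) R₀]
          ((Fin r → MvPolynomial (Fin m) R₀) ⧸ N₀) ≃ₗ[MvPolynomial (Fin m) R] M) := by
  classical
  obtain ⟨r, K, eM, hK⟩ :=
    Module.FinitePresentation.exists_fin (MvPolynomial (Fin m) R) M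
  obtain ⟨s, gR₁, hgR₁⟩ := Submodule.fg_iff_exists_fin_generating_family.mp hK
  let gR : Fin s ⊕ (Fin q × Fin r) → Fin r → MvPolynomial (Fin m) R :=
    Sum.elim gR₁ fun jl => Pi.single jl.2 (g jl.1)
  have hgR : Submodule.span _ (Set.range gR) = K := by
    rw [Set.Sum.elim_range, Submodule.span_union, hgR₁, sup_eq_left, Submodule.span_le]
    rintro _ ⟨⟨j, l⟩, rfl⟩
    refine (Submodule.Quotient.mk_eq_zero K).mp (eM.symm.injective ?_)
    have h1 : (Pi.single l (g j) : Fin r → MvPolynomial (Fin m) R) = g j • Pi.single l 1 := by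
      rw [← Pi.single_smul', smul_eq_mul, mul_one]
    rw [map_zero]
    exact (congrArg (eM.symm ∘ K.mkQ) h1).trans (by
      simp only [Function.comp_apply, map_smul, hg])
  refine ⟨(Finset.univ.biUnion fun i => Finset.univ.biUnion fun l => (gR₁ i l).coeffs) ∪
      Finset.univ.biUnion fun j => (g j).coeffs,
    fun R₀ _ _ hT => ?_⟩
  choose g₀₁ hg₀₁ using fun i l => exists_map_eq (algebraMap R₀ R) (p := gR₁ i l) fun x hx => hT (by
    simp only [Finset.coe_union, Finset.coe_biUnion, Set.mem_union, Set.mem_iUnion, Finset.mem_coe]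
    exact Or.inl ⟨i, Finset.mem_univ i, l, Finset.mem_univ l, hx⟩)
  choose g₁ hg₁ using fun j => exists_map_eq (algebraMap R₀ R) (p := g j) fun x hx => hT (by
    simp only [Finset.coe_union, Finset.coe_biUnion, Set.mem_union, Set.mem_iUnion, Finset.mem_coe]
    exact Or.inr ⟨j, Finset.mem_univ j, hx⟩)
  let g₀ : Fin s ⊕ (Fin q × Fin r) → Fin r → MvPolynomial (Fin m) R₀ :=
    Sum.elim g₀₁ fun jl => Pi.single jl.2 (g₁ jl.1)
  have hg₀ : ∀ i l, MvPolynomial.map (algebraMap R₀ R) (g₀ i l) = gR i l := by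
    rintro (i | ⟨j, l'⟩) l
    · exact hg₀₁ i l
    · show MvPolynomial.map (algebraMap R₀ R) ((Pi.single l' (g₁ j) : Fin r → _) l) =
        (Pi.single l' (g j) : Fin r → _) l
      rcases eq_or_ne l l' with rfl | h
      · rw [Pi.single_eq_same, Pi.single_eq_same, hg₁]
      · rw [Pi.single_eq_of_ne h, Pi.single_eq_of_ne h, map_zero]
  let N₀ : Submodule (MvPolynomial (Fin m) R₀) (Fin r → MvPolynomial (Fin m) R₀) :=
    Submodule.span _ (Set.range g₀)
  letI : Module (MvPolynomial (Fin m) R₀) M :=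
    Module.compHom M (algebraMap (MvPolynomial (Fin m) R₀) (MvPolynomial (Fin m) R))
  haveI : IsScalarTower (MvPolynomial (Fin m) R₀) (MvPolynomial (Fin m) R) M :=
    IsScalarTower.of_algebraMap_smul fun _ _ => rfl
  let πM : (Fin r → MvPolynomial (Fin m) R) →ₗ[MvPolynomial (Fin m) R] M :=
    eM.symm.toLinearMap ∘ₗ K.mkQ
  let ℓ : Fin r → M := fun l => πM (Pi.single l 1)
  have hπ : ∀ v, πM v = ∑ l, v l • ℓ l := fun v => by
    conv_lhs => rw [pi_eq_sum_univ' v]
    simp [map_sum, map_smul, ℓ]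
  have hφ : N₀ ≤ LinearMap.ker (Fintype.linearCombination (MvPolynomial (Fin m) R₀) ℓ) := by
    refine Submodule.span_le.mpr ?_
    rintro v ⟨i, rfl⟩
    rw [SetLike.mem_coe, LinearMap.mem_ker, Fintype.linearCombination_apply]
    have h0 : πM (gR i) = 0 := by
      have : K.mkQ (gR i) = 0 := (Submodule.Quotient.mk_eq_zero K).mpr
        (hgR ▸ Submodule.subset_span ⟨i, rfl⟩)
      simp [πM, this]
    rw [← h0, hπ]
    refine Finset.sum_congr rfl fun l _ => ?_
    rw [← algebraMap_smul (MvPolynomial (Fin m) R) (g₀ i l), ← hg₀]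
    rfl
  let ι : MvPolynomial (Fin m) R ⊗[MvPolynomial (Fin m) R₀]
      ((Fin r → MvPolynomial (Fin m) R₀) ⧸ N₀) →ₗ[MvPolynomial (Fin m) R] M :=
    LinearMap.liftBaseChange _ (N₀.liftQ _ hφ)
  let ε : (Fin r → MvPolynomial (Fin m) R) →ₗ[MvPolynomial (Fin m) R]
      MvPolynomial (Fin m) R ⊗[MvPolynomial (Fin m) R₀]
        ((Fin r → MvPolynomial (Fin m) R₀) ⧸ N₀) :=
    Fintype.linearCombination (MvPolynomial (Fin m) R) fun l => 1 ⊗ₜ N₀.mkQ (Pi.single l 1)
  have hει : ∀ v, ι (ε v) = πM v := fun v => by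
    simp only [ι, ε, hπ, Fintype.linearCombination_apply, map_sum, map_smul,
      LinearMap.liftBaseChange_tmul, one_smul]
    refine Finset.sum_congr rfl fun l _ => ?_
    congr 1
    show Fintype.linearCombination (MvPolynomial (Fin m) R₀) ℓ (Pi.single l 1) = ℓ l
    rw [Fintype.linearCombination_apply_single, one_smul]
  have hεmap : ∀ v : Fin r → MvPolynomial (Fin m) R₀,
      ε (fun l => MvPolynomial.map (algebraMap R₀ R) (v l)) = 1 ⊗ₜ N₀.mkQ v := fun v => by
    conv_rhs => rw [pi_eq_sum_univ' v, map_sum, tmul_sum]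
    simp only [ε, Fintype.linearCombination_apply]
    refine Finset.sum_congr rfl fun l _ => ?_
    rw [map_smul, tmul_smul]
    exact algebraMap_smul (M := MvPolynomial (Fin m) R ⊗[MvPolynomial (Fin m) R₀]
        ((Fin r → MvPolynomial (Fin m) R₀) ⧸ N₀))
      (MvPolynomial (Fin m) R) (v l) _
  have hεsurj : Surjective ε := by
    rw [← LinearMap.range_eq_top, eq_top_iff]
    intro y _
    induction y using TensorProduct.induction_on with
    | zero => exact zero_mem _
    | add a b ha hb => exact add_mem (ha trivial) (hb trivial)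
    | tmul q w =>
      obtain ⟨v, rfl⟩ := N₀.mkQ_surjective w
      rw [← mul_one q, ← smul_eq_mul, ← smul_tmul', ← hεmap]
      exact Submodule.smul_mem _ _ ⟨_, rfl⟩
  have hεK : ∀ v ∈ K, ε v = 0 := fun v hv => by
    rw [← hgR] at hv
    induction hv using Submodule.span_induction with
    | mem x hx =>
      obtain ⟨i, rfl⟩ := hx
      rw [show gR i = fun l => MvPolynomial.map (algebraMap R₀ R) (g₀ i l) from
        funext fun l => (hg₀ i l).symm, hεmap,
        show N₀.mkQ (g₀ i) = 0 from (Submodule.Quotient.mk_eq_zero N₀).mpr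
          (Submodule.subset_span ⟨i, rfl⟩), tmul_zero]
    | zero => exact map_zero ε
    | add a b _ _ ha hb => rw [map_add, ha, hb, add_zero]
    | smul c a _ ha => rw [map_smul, ha, smul_zero]
  refine ⟨r, N₀, ?_, ⟨LinearEquiv.ofBijective ι ⟨?_, ?_⟩⟩⟩
  · refine ⟨g₁, hg₁, fun j v => ?_⟩
    rw [pi_eq_sum_univ' v, Finset.smul_sum]
    refine Submodule.sum_mem _ fun l _ => ?_
    rw [smul_comm]
    refine Submodule.smul_mem _ _ (Submodule.subset_span ⟨Sum.inr (j, l), ?_⟩)
    show (Pi.single l (g₁ j) : Fin r → MvPolynomial (Fin m) R₀) = _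
    rw [← Pi.single_smul', smul_eq_mul, mul_one]
  · rw [injective_iff_map_eq_zero]
    intro x hx
    obtain ⟨v, rfl⟩ := hεsurj x
    rw [hει] at hx
    exact hεK v ((Submodule.Quotient.mk_eq_zero K).mp (eM.symm.injective (hx.trans (map_zero _).symm)))
  · intro y
    obtain ⟨v, hv⟩ := (eM.symm.surjective.comp K.mkQ_surjective) y
    exact ⟨ε v, (hει v).trans hv⟩

theorem flat_localizedModule {R A M : Type u} [CommRing R] [CommRing A] [Algebra R A]
    [AddCommGroup M] [Module A M] [Module R M] [IsScalarTower R A M] [Module.Flat R M]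
    (T : Submonoid A) : Module.Flat R (LocalizedModule T M) := by
  rw [Module.Flat.iff_lTensor_preserves_injective_linearMap]
  intro N N' _ _ _ _ f hf
  refine lTensor_injective_of_isLocalizedModule T (LocalizedModule.mkLinearMap T M) f
    fun x hx => ⟨1, T.one_mem, ?_⟩
  rw [one_smul]
  exact Module.Flat.lTensor_preserves_injective_linearMap f hf (hx.trans (map_zero _).symm)

set_option maxHeartbeats 1000000 in
/-- A flat finitely presented module over `R[z]` has a flat model over a finitely generated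
subring. -/
theorem exists_flat_model {R : Type u} [CommRing R] {m : ℕ} (M : Type u) [AddCommGroup M]
    [Module (MvPolynomial (Fin m) R) M] [Module R M] [IsScalarTower R (MvPolynomial (Fin m) R) M]
    [Module.FinitePresentation (MvPolynomial (Fin m) R) M] [Module.Flat R M]
    {q : ℕ} (g : Fin q → MvPolynomial (Fin m) R) (hg : ∀ j, ∀ x : M, g j • x = 0) :
    ∃ (R₃ : Type u) (_ : CommRing R₃) (_ : Algebra R₃ R) (_ : Algebra.FiniteType ℤ R₃)
      (g₃ : Fin q → MvPolynomial (Fin m) R₃) (N : Type u) (_ : AddCommGroup N)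
      (_ : Module (MvPolynomial (Fin m) R₃) N) (_ : Module R₃ N)
      (_ : IsScalarTower R₃ (MvPolynomial (Fin m) R₃) N),
      Module.Finite (MvPolynomial (Fin m) R₃) N ∧ Module.Flat R₃ N ∧
      (∀ j, MvPolynomial.map (algebraMap R₃ R) (g₃ j) = g j) ∧
      (∀ j (x : N), g₃ j • x = 0) ∧
      Nonempty (MvPolynomial (Fin m) R ⊗[MvPolynomial (Fin m) R₃] N
        ≃ₗ[MvPolynomial (Fin m) R] M) := by
  classical
  obtain ⟨T, hT⟩ := exists_model' (R := R) (m := m) M g hg
  let R₀ := Algebra.adjoin ℤ (T : Set R)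
  obtain ⟨r, N₀, ⟨g₀, hg₀, hkill⟩, ⟨eM⟩⟩ := hT R₀ fun x hx => ⟨⟨x, Algebra.subset_adjoin hx⟩, rfl⟩
  let M₀ := (Fin r → MvPolynomial (Fin m) R₀) ⧸ N₀
  haveI : Module.Finite (MvPolynomial (Fin m) R₀) M₀ := Module.Finite.quotient _ N₀
  have hP : ∀ P : PrimeSpectrum (MvPolynomial (Fin m) R),
      ∃ (R₂ : Type u) (_ : CommRing R₂) (_ : Algebra R₂ R) (_ : Algebra R₀ R₂)
        (_ : IsScalarTower R₀ R₂ R) (f : MvPolynomial (Fin m) R₂),
        Algebra.FiniteType ℤ R₂ ∧ Injective (algebraMap R₂ R) ∧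
        MvPolynomial.map (algebraMap R₂ R) f ∉ P.asIdeal ∧
        ∀ Q : PrimeSpectrum (MvPolynomial (Fin m) R₂), f ∉ Q.asIdeal →
          Module.Flat R₂ (LocalizedModule Q.asIdeal.primeCompl
            (MvPolynomial (Fin m) R₂ ⊗[MvPolynomial (Fin m) R₀] M₀)) := by
    intro P
    obtain ⟨R₂, _, _, _, _, _, hft, hinj, hflat⟩ :=
      exists_flat_stage_at M T M₀ eM P.asIdeal (flat_localizedModule _)
    haveI : Module.Finite (MvPolynomial (Fin m) R₂)
        (MvPolynomial (Fin m) R₂ ⊗[MvPolynomial (Fin m) R₀] M₀) := Module.Finite.base_change _ _ _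
    obtain ⟨_, ⟨f, rfl⟩, hPf, hf⟩ :=
      PrimeSpectrum.isTopologicalBasis_basic_opens.exists_subset_of_mem_open
        (show (⟨P.asIdeal.comap (MvPolynomial.map (algebraMap R₂ R)), inferInstance⟩ :
            PrimeSpectrum (MvPolynomial (Fin m) R₂)) ∈
          {q : PrimeSpectrum (MvPolynomial (Fin m) R₂) |
            Module.Flat R₂ (LocalizedModule q.asIdeal.primeCompl
              (MvPolynomial (Fin m) R₂ ⊗[MvPolynomial (Fin m) R₀] M₀))} from hflat)
        (isOpen_flat_locus_noetherian (R := R₂) (A := MvPolynomial (Fin m) R₂)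
          (M := MvPolynomial (Fin m) R₂ ⊗[MvPolynomial (Fin m) R₀] M₀))
    exact ⟨R₂, inferInstance, inferInstance, inferInstance, inferInstance, f, hft, hinj, hPf,
      fun Q hQ => hf hQ⟩
  choose R₂ i₁ i₂ i₃ i₄ f hft hinj hPf hflat using hP
  let F : PrimeSpectrum (MvPolynomial (Fin m) R) → MvPolynomial (Fin m) R :=
    fun P => MvPolynomial.map (algebraMap (R₂ P) R) (f P)
  have htop : (1 : MvPolynomial (Fin m) R) ∈ Ideal.span (Set.range F) := by
    by_contra h
    obtain ⟨P, hP, hle⟩ := Ideal.exists_le_maximal _ (fun h' => h ((Ideal.eq_top_iff_one _).1 h'))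
    exact hPf ⟨P, hP.isPrime⟩ (hle (Ideal.subset_span (Set.mem_range_self (f := F) ⟨P, hP.isPrime⟩)))
  obtain ⟨a, ha⟩ := Finsupp.mem_span_range_iff_exists_finsupp.1 htop
  choose G hG using fun P => (hft P).out
  let T₃ : Finset R := T ∪ (a.support.biUnion fun P => (a P).coeffs) ∪
    a.support.biUnion fun P => (G P).image (algebraMap (R₂ P) R)
  let R₃ := Algebra.adjoin ℤ (T₃ : Set R)
  have hT3 : T ⊆ T₃ := fun x hx => Finset.mem_union_left _ (Finset.mem_union_left _ hx)
  letI : Algebra R₀ R₃ :=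
    (Subalgebra.inclusion (Algebra.adjoin_mono (Finset.coe_subset.2 hT3) : R₀ ≤ R₃)).toRingHom.toAlgebra
  haveI : IsScalarTower R₀ R₃ R := IsScalarTower.of_algebraMap_eq fun x => rfl
  haveI : Algebra.FiniteType ℤ R₃ :=
    (Subalgebra.fg_iff_finiteType _).1 (Subalgebra.fg_adjoin_finset _)
  have hρ : ∀ P ∈ a.support, ∀ x : R₂ P, algebraMap (R₂ P) R x ∈ R₃ := by
    intro P hP x
    have hx : x ∈ Algebra.adjoin ℤ (G P : Set (R₂ P)) := by rw [hG P]; exact trivial
    induction hx using Algebra.adjoin_induction with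
    | mem y hy =>
      exact Algebra.subset_adjoin (Finset.mem_coe.2 (Finset.mem_union_right _
        (Finset.mem_biUnion.2 ⟨P, hP, Finset.mem_image_of_mem _ hy⟩)))
    | algebraMap c =>
      rw [show algebraMap ℤ (R₂ P) c = (c : R₂ P) from rfl, map_intCast]
      exact intCast_mem R₃ c
    | add y z _ _ hy hz => rw [map_add]; exact add_mem hy hz
    | mul y z _ _ hy hz => rw [map_mul]; exact mul_mem hy hz
  let N := MvPolynomial (Fin m) R₃ ⊗[MvPolynomial (Fin m) R₀] M₀
  letI : AddCommGroup N := inferInstanceAs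
    (AddCommGroup (MvPolynomial (Fin m) R₃ ⊗[MvPolynomial (Fin m) R₀] M₀))
  haveI : Module.Finite (MvPolynomial (Fin m) R₃) N := Module.Finite.base_change _ _ _
  have hN : Module.Flat R₃ N := by
    refine Module.flat_of_isLocalized_maximal (MvPolynomial (Fin m) R₃) N
      (fun Q _ => LocalizedModule Q.primeCompl N)
      (fun Q _ => LocalizedModule.mkLinearMap Q.primeCompl N) fun Q hQ => ?_
    have hex : ∃ (P : _) (hP : P ∈ a.support), MvPolynomial.map
        ((algebraMap (R₂ P) R).codRestrict R₃ (hρ P hP)) (f P) ∉ Q := by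
      by_contra h
      push_neg at h
      choose! al hal using fun (P : PrimeSpectrum (MvPolynomial (Fin m) R)) (hP : P ∈ a.support) =>
        exists_map_eq (algebraMap R₃ R) (p := a P) fun x hx =>
          ⟨⟨x, Algebra.subset_adjoin (Finset.mem_coe.2 (Finset.mem_union_left _
            (Finset.mem_union_right _ (Finset.mem_biUnion.2 ⟨P, hP, hx⟩))))⟩, rfl⟩
      have h1 : (1 : MvPolynomial (Fin m) R₃) = ∑ P ∈ a.support.attach, al P.1 *
          MvPolynomial.map ((algebraMap (R₂ P.1) R).codRestrict R₃ (hρ P.1 P.2)) (f P.1) := by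
        apply MvPolynomial.map_injective (algebraMap R₃ R) Subtype.val_injective
        rw [map_one, map_sum, ← ha, Finsupp.sum, ← Finset.sum_attach]
        refine Finset.sum_congr rfl fun P _ => ?_
        rw [map_mul, hal P.1 P.2, MvPolynomial.map_map, smul_eq_mul]
        rfl
      refine hQ.ne_top ((Ideal.eq_top_iff_one Q).2 ?_)
      rw [h1]
      exact Submodule.sum_mem _ fun P _ => Ideal.mul_mem_left _ _ (h P.1 P.2)
    obtain ⟨P, hP, hPQ⟩ := hex
    letI : Algebra (R₂ P) R₃ := ((algebraMap (R₂ P) R).codRestrict R₃ (hρ P hP)).toAlgebra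
    haveI : IsScalarTower R₀ (R₂ P) R₃ := IsScalarTower.of_algebraMap_eq fun x =>
      Subtype.ext (IsScalarTower.algebraMap_apply R₀ (R₂ P) R x)
    let Q₂ : PrimeSpectrum (MvPolynomial (Fin m) (R₂ P)) :=
      ⟨Q.comap (MvPolynomial.map (algebraMap (R₂ P) R₃)), inferInstance⟩
    haveI := hflat P Q₂ hPQ
    exact flat_of_stage (LS := LocalizedModule Q₂.asIdeal.primeCompl
        (MvPolynomial (Fin m) (R₂ P) ⊗[MvPolynomial (Fin m) R₀] M₀))
      (L := LocalizedModule Q.primeCompl N) M₀ (R₂ P) R₃ Q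
      (LocalizedModule.mkLinearMap Q₂.asIdeal.primeCompl _)
      (LocalizedModule.mkLinearMap Q.primeCompl N)
  haveI : IsScalarTower (MvPolynomial (Fin m) R₀) (MvPolynomial (Fin m) R₃) (MvPolynomial (Fin m) R) :=
    IsScalarTower.of_algebraMap_eq fun x => by
      show MvPolynomial.map (algebraMap R₀ R) x =
        MvPolynomial.map (algebraMap R₃ R) (MvPolynomial.map (algebraMap R₀ R₃) x)
      rw [MvPolynomial.map_map, ← IsScalarTower.algebraMap_eq]
  refine ⟨R₃, inferInstance, inferInstance, inferInstance,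
    fun j => MvPolynomial.map (algebraMap R₀ R₃) (g₀ j), N, inferInstance, inferInstance,
    inferInstance, inferInstance, inferInstance, hN, fun j => ?_, fun j x => ?_,
    ⟨(AlgebraTensorModule.cancelBaseChange (MvPolynomial (Fin m) R₀) (MvPolynomial (Fin m) R₃)
      (MvPolynomial (Fin m) R) (MvPolynomial (Fin m) R) M₀) ≪≫ₗ eM⟩⟩
  · rw [MvPolynomial.map_map, ← IsScalarTower.algebraMap_eq, hg₀]
  · induction x using TensorProduct.induction_on with
    | zero => exact smul_zero _
    | add y z hy hz => rw [smul_add, hy, hz, add_zero]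
    | tmul p v =>
      obtain ⟨v, rfl⟩ := N₀.mkQ_surjective v
      have e : MvPolynomial.map (algebraMap R₀ R₃) (g₀ j) • (p ⊗ₜ[MvPolynomial (Fin m) R₀] N₀.mkQ v) =
          p ⊗ₜ[MvPolynomial (Fin m) R₀] (g₀ j • N₀.mkQ v) := by
        rw [tmul_smul, ← algebraMap_smul (MvPolynomial (Fin m) R₃) (g₀ j)]
        rfl
      rw [e, ← map_smul, Submodule.mkQ_apply, (Submodule.Quotient.mk_eq_zero N₀).2 (hkill j v),
        tmul_zero]

end GrothLib.FlatModel
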