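import Groth.Agent.Lib.FibreFlat.Open
import Groth.Agent.Lib.FibreFlat.OpenNoetherian
import Mathlib.RingTheory.FiniteType

/-!
# Flatness at a prime descends to a finitely generated stage

The argument is the one of `GrothLib.FibreFlat.flat_nhd`, stated for a given model.
-/

universe u

namespace GrothLib.FlatModel

open TensorProduct Function IsLocalRing MvPolynomial GrothLib.FlatStage GrothLib.FibreFlat

attribute [local instance] MvPolynomial.algebraMvPolynomial

set_option maxHeartbeats 1000000 in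
/-- If `M` is flat over `R` at `P`, so is a model of it at some finitely generated stage. -/
theorem exists_flat_stage_at {R : Type u} [CommRing R] {m : ℕ} (M : Type u) [AddCommGroup M]
    [Module (MvPolynomial (Fin m) R) M] [Module R M] [IsScalarTower R (MvPolynomial (Fin m) R) M]
    (T : Finset R) (M₀ : Type u) [AddCommGroup M₀]
    [Module (MvPolynomial (Fin m) (Algebra.adjoin ℤ (T : Set R))) M₀]
    [Module (Algebra.adjoin ℤ (T : Set R)) M₀]
    [IsScalarTower (Algebra.adjoin ℤ (T : Set R))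
      (MvPolynomial (Fin m) (Algebra.adjoin ℤ (T : Set R))) M₀]
    [Module.Finite (MvPolynomial (Fin m) (Algebra.adjoin ℤ (T : Set R))) M₀]
    (eM : MvPolynomial (Fin m) R ⊗[MvPolynomial (Fin m) (Algebra.adjoin ℤ (T : Set R))] M₀
      ≃ₗ[MvPolynomial (Fin m) R] M)
    (P : Ideal (MvPolynomial (Fin m) R)) [P.IsPrime]
    (hP : Module.Flat R (LocalizedModule P.primeCompl M)) :
    ∃ (R₂ : Type u) (_ : CommRing R₂) (_ : IsNoetherianRing R₂) (_ : Algebra R₂ R)
      (_ : Algebra (Algebra.adjoin ℤ (T : Set R)) R₂)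
      (_ : IsScalarTower (Algebra.adjoin ℤ (T : Set R)) R₂ R),
      Algebra.FiniteType ℤ R₂ ∧ Injective (algebraMap R₂ R) ∧
      Module.Flat R₂ (LocalizedModule (P.comap (MvPolynomial.map (algebraMap R₂ R))).primeCompl
        (MvPolynomial (Fin m) R₂ ⊗[MvPolynomial (Fin m) (Algebra.adjoin ℤ (T : Set R))] M₀)) := by
  classical
  let R₀ := Algebra.adjoin ℤ (T : Set R)
  haveI : IsNoetherianRing R₀ := isNoetherianRing_of_fg (Subalgebra.fg_adjoin_finset T)
  -- localize the base at `p`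
  let p := P.comap (C : R →+* MvPolynomial (Fin m) R)
  haveI : p.IsPrime := Ideal.IsPrime.comap _
  obtain ⟨Rp, _, _, _, _⟩ := exists_atPrime p
  let φ : MvPolynomial (Fin m) R →+* MvPolynomial (Fin m) Rp := MvPolynomial.map (algebraMap R Rp)
  let W : Submonoid (MvPolynomial (Fin m) R) := p.primeCompl.map (C : R →+* MvPolynomial (Fin m) R)
  haveI : IsLocalization W (MvPolynomial (Fin m) Rp) := MvPolynomial.isLocalization p.primeCompl Rp
  have hdisj : Disjoint (W : Set (MvPolynomial (Fin m) R)) (P : Set (MvPolynomial (Fin m) R)) := by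
    rw [Set.disjoint_left]
    rintro _ ⟨x, hx, rfl⟩ hxP
    exact hx hxP
  let P₁ : Ideal (MvPolynomial (Fin m) Rp) := P.map (algebraMap _ (MvPolynomial (Fin m) Rp))
  haveI : P₁.IsPrime := IsLocalization.isPrime_of_isPrime_disjoint W _ P inferInstance hdisj
  have hP₁ : P₁.comap φ = P :=
    IsLocalization.comap_map_of_isPrime_disjoint W (MvPolynomial (Fin m) Rp) inferInstance hdisj
  have hP₁C : P₁.comap C = maximalIdeal Rp := by
    haveI : (P₁.comap C).IsPrime := Ideal.IsPrime.comap _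
    apply (IsLocalization.orderIsoOfPrime p.primeCompl Rp).injective.eq_iff (a := ⟨P₁.comap C, inferInstance⟩)
      (b := ⟨maximalIdeal Rp, inferInstance⟩) |>.mp ?_ |> congrArg Subtype.val
    ext1
    show (P₁.comap C).comap (algebraMap R Rp) = (maximalIdeal Rp).comap (algebraMap R Rp)
    rw [show (maximalIdeal Rp).comap (algebraMap R Rp) = p from
      IsLocalization.AtPrime.comap_maximalIdeal Rp p, Ideal.comap_comap]
    show P₁.comap (C.comp (algebraMap R Rp)) = p
    rw [show (C : Rp →+* MvPolynomial (Fin m) Rp).comp (algebraMap R Rp) = φ.comp C from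
      RingHom.ext fun x => (map_C _ x).symm, ← Ideal.comap_comap, hP₁]
  -- flatness over `Rp`
  let N := MvPolynomial (Fin m) R ⊗[MvPolynomial (Fin m) R₀] M₀
  let N₁ := MvPolynomial (Fin m) Rp ⊗[MvPolynomial (Fin m) R₀] M₀
  let ιR : N →ₗ[MvPolynomial (Fin m) R] LocalizedModule P.primeCompl M :=
    (LocalizedModule.mkLinearMap P.primeCompl M) ∘ₗ eM.toLinearMap
  haveI : IsLocalizedModule P.primeCompl ιR :=
    IsLocalizedModule.of_linearEquiv_right P.primeCompl (LocalizedModule.mkLinearMap P.primeCompl M) eM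
  let L₁ := LocalizedModule P₁.primeCompl N₁
  let ι₁ : N₁ →ₗ[MvPolynomial (Fin m) Rp] L₁ := LocalizedModule.mkLinearMap P₁.primeCompl N₁
  haveI : Module.Flat Rp L₁ := by
    haveI : IsLocalizedModule
        (P₁.comap (MvPolynomial.map (algebraMap R Rp))).primeCompl ιR := by
      convert (inferInstance : IsLocalizedModule P.primeCompl ιR) using 3
    exact flat_of_stage (L := L₁) M₀ R Rp P₁ ιR ι₁
  -- make the ground ring local
  let p₀ := p.comap (algebraMap R₀ R)
  obtain ⟨R₀', _, _, _, _⟩ := exists_atPrime p₀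
  obtain ⟨ψ, hψ, hψl⟩ := exists_localHom (algebraMap R₀ R) p R₀' Rp
  letI : Algebra R₀' Rp := ψ.toAlgebra
  haveI : IsScalarTower R₀ R₀' Rp := IsScalarTower.of_algebraMap_eq fun x =>
    ((hψ x).trans (IsScalarTower.algebraMap_apply R₀ R Rp x).symm).symm
  haveI : IsLocalHom (algebraMap R₀' Rp) := hψl
  haveI : IsNoetherianRing R₀' := IsLocalization.isNoetherianRing p₀.primeCompl _ inferInstance
  haveI : IsScalarTower (MvPolynomial (Fin m) R₀) (MvPolynomial (Fin m) R₀') (MvPolynomial (Fin m) Rp) :=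
    IsScalarTower.of_algebraMap_eq fun x => by
      show MvPolynomial.map (algebraMap R₀ Rp) x =
        MvPolynomial.map (algebraMap R₀' Rp) (MvPolynomial.map (algebraMap R₀ R₀') x)
      rw [MvPolynomial.map_map, ← IsScalarTower.algebraMap_eq]
  let M₀' := MvPolynomial (Fin m) R₀' ⊗[MvPolynomial (Fin m) R₀] M₀
  let e₁ : MvPolynomial (Fin m) Rp ⊗[MvPolynomial (Fin m) R₀'] M₀' ≃ₗ[MvPolynomial (Fin m) Rp] N₁ :=
    AlgebraTensorModule.cancelBaseChange (MvPolynomial (Fin m) R₀) (MvPolynomial (Fin m) R₀')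
      (MvPolynomial (Fin m) Rp) (MvPolynomial (Fin m) Rp) M₀
  haveI : IsLocalizedModule P₁.primeCompl (ι₁ ∘ₗ e₁.toLinearMap) :=
    IsLocalizedModule.of_linearEquiv_right P₁.primeCompl ι₁ e₁
  obtain ⟨S, _, _, _, _, h, hloc, -, hinj, -, ⟨B, ⟨G, hG⟩, hfrac⟩, hflat⟩ :=
    exists_flat_stage' (L := L₁) M₀' P₁ hP₁C (ι₁ ∘ₗ e₁.toLinearMap) (∅ : Set Rp) Set.finite_empty
  -- a finitely generated subring
  choose q hq using fun x : ↥G => IsLocalization.surj p.primeCompl (x : Rp)
  let T₁ : Finset R :=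
    T ∪ Finset.univ.image (fun x => (q x).1) ∪ Finset.univ.image (fun x => ((q x).2 : R))
  let R₁ := Algebra.adjoin ℤ (T₁ : Set R)
  haveI : IsNoetherianRing R₁ := isNoetherianRing_of_fg (Subalgebra.fg_adjoin_finset T₁)
  let p₁ := p.comap (algebraMap R₁ R)
  obtain ⟨S₁, _, _, _, _⟩ := exists_atPrime p₁
  obtain ⟨ρ, hρ', _⟩ := exists_localHom (algebraMap R₁ R) p S₁ Rp
  have hρ : ∀ x : R₁, ρ (algebraMap R₁ S₁ x) = algebraMap R Rp x := hρ'
  -- kill the kernel
  obtain ⟨k, gK, hgK⟩ := Submodule.fg_iff_exists_fin_generating_family.mp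
    (IsNoetherian.noetherian (RingHom.ker ((algebraMap R Rp).comp (algebraMap R₁ R))))
  have hgK' : ∀ i, ∃ t ∈ p.primeCompl, t * (gK i : R) = 0 := fun i => by
    have hi : gK i ∈ RingHom.ker ((algebraMap R Rp).comp (algebraMap R₁ R)) :=
      hgK ▸ Submodule.subset_span ⟨i, rfl⟩
    obtain ⟨t, ht⟩ := (IsLocalization.map_eq_zero_iff p.primeCompl Rp _).mp hi
    exact ⟨t, t.2, ht⟩
  choose t ht htg using hgK'
  let R₂' := Algebra.adjoin ℤ ((T₁ ∪ {∏ i, t i} : Finset R) : Set R)
  obtain ⟨R₂, _, _, _, hft₂, e₂, he₂, hinj₂⟩ : ∃ (A : Type u) (_ : CommRing A) (_ : Algebra A R)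
      (_ : IsNoetherianRing A) (_ : Algebra.FiniteType ℤ A) (e : R₂' →+* A),
      (∀ x, algebraMap A R (e x) = x) ∧ Injective (algebraMap A R) :=
    ⟨R₂', inferInstance, inferInstance, isNoetherianRing_of_fg (Subalgebra.fg_adjoin_finset _),
      (Subalgebra.fg_iff_finiteType _).1 (Subalgebra.fg_adjoin_finset _),
      RingHom.id _, fun _ => rfl, Subtype.val_injective⟩
  have h12 : R₁ ≤ R₂' := Algebra.adjoin_mono (by simp)
  let p₂ := p.comap (algebraMap R₂ R)
  obtain ⟨S₂, _, _, _, _⟩ := exists_atPrime p₂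
  let i₁₂ : R₁ →+* R₂ := e₂.comp (Subalgebra.inclusion h12).toRingHom
  have hi₁₂ : ∀ x, algebraMap R₂ R (i₁₂ x) = x := fun x => he₂ _
  have hp₁₂ : p₂.comap i₁₂ = p₁ := by
    ext x
    show algebraMap R₂ R (i₁₂ x) ∈ p ↔ algebraMap R₁ R x ∈ p
    rw [hi₁₂]
    rfl
  haveI : IsLocalization.AtPrime S₁ (p₂.comap i₁₂) := by simpa only [hp₁₂]
  obtain ⟨γ, hγmap, -⟩ := exists_localHom i₁₂ p₂ S₁ S₂
  have hγ : RingHom.ker ρ ≤ RingHom.ker γ := by
    intro x hx
    obtain ⟨a, s, rfl⟩ := IsLocalization.exists_mk'_eq p₁.primeCompl x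
    have ha : a ∈ RingHom.ker ((algebraMap R Rp).comp (algebraMap R₁ R)) := by
      have h0 : ρ (IsLocalization.mk' S₁ a s) * ρ (algebraMap R₁ S₁ s) = ρ (algebraMap R₁ S₁ a) := by
        rw [← map_mul, IsLocalization.mk'_spec]
      rw [RingHom.mem_ker.mp hx, zero_mul, hρ] at h0
      exact h0.symm
    have ha' : algebraMap R₂ S₂ (i₁₂ a) = 0 := by
      clear hx
      rw [← hgK] at ha
      induction ha using Submodule.span_induction with
      | mem y hy =>
        obtain ⟨i, rfl⟩ := hy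
        refine (IsLocalization.map_eq_zero_iff p₂.primeCompl S₂ _).mpr
          ⟨⟨e₂ ⟨∏ i, t i, Algebra.subset_adjoin (by simp)⟩, fun h' => ?_⟩, hinj₂ ?_⟩
        · rw [SetLike.mem_coe, Ideal.mem_comap, he₂] at h'
          obtain ⟨j, -, hj⟩ := Ideal.IsPrime.prod_mem_iff.mp (show (∏ i, t i) ∈ p from h')
          exact ht j hj
        · rw [map_mul, he₂, hi₁₂, map_zero]
          show (∏ i, t i) * (gK i : R) = 0
          rw [← Finset.prod_erase_mul _ _ (Finset.mem_univ i), mul_assoc, htg, mul_zero]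
      | zero => simp
      | add y z _ _ hy hz => rw [map_add, map_add, hy, hz, add_zero]
      | smul c y _ hy => rw [smul_eq_mul, map_mul, map_mul, hy, mul_zero]
    rw [RingHom.mem_ker]
    have h0 : γ (IsLocalization.mk' S₁ a s) * γ (algebraMap R₁ S₁ s) = γ (algebraMap R₁ S₁ a) := by
      rw [← map_mul, IsLocalization.mk'_spec]
    rw [hγmap, hγmap, ha'] at h0
    refine ((IsLocalization.map_units S₂ (⟨i₁₂ s, fun h' => s.2 ((Ideal.ext_iff.mp hp₁₂ s).mp h')⟩ : p₂.primeCompl)).mul_left_eq_zero).mp h0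
  -- the stage maps to `S₂`
  have hBρ : ∀ b ∈ B, b ∈ ρ.range := by
    intro b hb
    rw [← hG] at hb
    induction hb using Algebra.adjoin_induction with
    | mem x hx =>
      have hqa : (q ⟨x, hx⟩).1 ∈ R₁ := Algebra.subset_adjoin (by simp [T₁])
      have hqs : ((q ⟨x, hx⟩).2 : R) ∈ R₁ := Algebra.subset_adjoin (by simp [T₁])
      obtain ⟨u, hu⟩ := isUnit_of_map_unit ρ (algebraMap R₁ S₁ ⟨_, hqs⟩)
        (by rw [hρ]; exact IsLocalization.map_units Rp (q ⟨x, hx⟩).2)
      refine ⟨algebraMap R₁ S₁ ⟨_, hqa⟩ * (↑u⁻¹ : S₁), ?_⟩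
      have h1 : ρ u = algebraMap R Rp ((q ⟨x, hx⟩).2 : R) := by rw [hu]; exact hρ _
      rw [map_mul, hρ]
      show algebraMap R Rp (q ⟨x, hx⟩).1 * _ = x
      rw [← hq, ← h1, mul_assoc, ← map_mul, Units.mul_inv, map_one, mul_one]
    | algebraMap c =>
      obtain ⟨a, s, rfl⟩ := IsLocalization.exists_mk'_eq p₀.primeCompl c
      have hle : (R₀ : Subalgebra ℤ R) ≤ R₁ := Algebra.adjoin_mono (by simp [T₁])
      obtain ⟨u, hu⟩ := isUnit_of_map_unit ρ (algebraMap R₁ S₁ ⟨_, hle (s : R₀).2⟩)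
        (by rw [hρ]; exact IsLocalization.map_units Rp (⟨((s : R₀) : R), s.2⟩ : p.primeCompl))
      refine ⟨algebraMap R₁ S₁ ⟨_, hle a.2⟩ * (↑u⁻¹ : S₁), ?_⟩
      have h1 : ρ u = algebraMap R Rp ((s : R₀) : R) := by rw [hu]; exact hρ _
      have h2 : ψ (IsLocalization.mk' R₀' a s) * algebraMap R Rp ((s : R₀) : R) =
          algebraMap R Rp (a : R) := by
        have := congrArg ψ (IsLocalization.mk'_spec R₀' a s)
        rwa [map_mul, hψ, hψ] at this
      rw [map_mul, hρ]
      show algebraMap R Rp (a : R) * _ = ψ _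
      rw [← h2, ← h1, mul_assoc, ← map_mul, Units.mul_inv, map_one, mul_one]
    | add x y _ _ hx hy => exact add_mem hx hy
    | mul x y _ _ hx hy => exact mul_mem hx hy
  have hrange : ∀ x, h x ∈ ρ.range := fun x => by
    obtain ⟨a, ha, b, hb, hbu, hx⟩ := hfrac x
    obtain ⟨a', rfl⟩ := hBρ a ha
    obtain ⟨b', rfl⟩ := hBρ b hb
    obtain ⟨u, rfl⟩ := isUnit_of_map_unit ρ b' hbu
    exact ⟨a' * (↑u⁻¹ : S₁), by rw [map_mul, ← hx, mul_assoc, ← map_mul, Units.mul_inv, map_one, mul_one]⟩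
  let g : S →+* S₂ := ((Ideal.Quotient.lift (RingHom.ker ρ) γ fun x hx => hγ hx).comp
    (RingHom.quotientKerEquivRange ρ).symm.toRingHom).comp (h.toRingHom.codRestrict ρ.range hrange)
  have hg : ∀ (x : S) (y : S₁), ρ y = h x → g x = γ y := by
    intro x y hxy
    have e : (RingHom.quotientKerEquivRange ρ).symm (h.toRingHom.codRestrict ρ.range hrange x) =
        Ideal.Quotient.mk _ y := by
      rw [RingEquiv.symm_apply_eq]
      exact Subtype.ext hxy.symm
    refine Eq.trans (b := Ideal.Quotient.lift (RingHom.ker ρ) γ (fun z hz => hγ hz)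
      ((RingHom.quotientKerEquivRange ρ).symm (h.toRingHom.codRestrict ρ.range hrange x))) rfl ?_
    rw [e]
    exact Ideal.Quotient.lift_mk _ _ _
  letI : Algebra S S₂ := g.toAlgebra
  obtain ⟨σ, hσ, -⟩ := exists_localHom (algebraMap R₂ R) p S₂ Rp
  have hσg : ∀ x, σ (g x) = h x := fun x => by
    obtain ⟨y, hy⟩ := hrange x
    rw [hg x y hy, ← hy]
    suffices hcomp : σ.comp γ = ρ from DFunLike.congr_fun hcomp y
    refine IsLocalization.ringHom_ext p₁.primeCompl (RingHom.ext fun z => ?_)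
    simp only [RingHom.comp_apply, hσ, hγmap, hi₁₂]
    exact (hρ z).symm
  -- flatness at the stage `R₂`
  letI : Algebra R₀ R₂ := (e₂.comp (Subalgebra.inclusion
    (Algebra.adjoin_mono (Finset.coe_subset.mpr fun a ha => by simp [T₁, ha]) : R₀ ≤ R₂')).toRingHom).toAlgebra
  haveI : IsScalarTower R₀ R₂ R := IsScalarTower.of_algebraMap_eq fun x => by
    show _ = algebraMap R₂ R (e₂ _)
    rw [he₂]
    rfl
  letI : Algebra R₀ S₂ := ((algebraMap R₂ S₂).comp (algebraMap R₀ R₂)).toAlgebra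
  haveI : IsScalarTower R₀ R₂ S₂ := IsScalarTower.of_algebraMap_eq fun x => rfl
  letI : Algebra R₀ S := ((algebraMap R₀' S).comp (algebraMap R₀ R₀')).toAlgebra
  haveI : IsScalarTower R₀ R₀' S := IsScalarTower.of_algebraMap_eq fun x => rfl
  haveI : IsScalarTower R₀ S S₂ := IsScalarTower.of_algebraMap_eq fun x => by
    have h2 : (x : R) ∈ R₁ := (Algebra.adjoin_mono (by simp [T₁]) : R₀ ≤ R₁) x.2
    refine ((hg _ (algebraMap R₁ S₁ ⟨x, h2⟩) ?_).trans (hγmap _)).symm
    rw [hρ]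
    show _ = h (algebraMap R₀' S (algebraMap R₀ R₀' x))
    rw [h.commutes]
    exact IsScalarTower.algebraMap_apply R₀ R₀' Rp x
  haveI : IsScalarTower (MvPolynomial (Fin m) R₀) (MvPolynomial (Fin m) R₀') (MvPolynomial (Fin m) S) :=
    IsScalarTower.of_algebraMap_eq fun x => by
      show MvPolynomial.map (algebraMap R₀ S) x =
        MvPolynomial.map (algebraMap R₀' S) (MvPolynomial.map (algebraMap R₀ R₀') x)
      rw [MvPolynomial.map_map, ← IsScalarTower.algebraMap_eq]
  let P₂' := P₁.comap (MvPolynomial.map σ)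
  let Q := P₁.comap (MvPolynomial.map h.toRingHom)
  have hQ : P₂'.comap (MvPolynomial.map (algebraMap S S₂)) = Q := by
    rw [Ideal.comap_comap]
    congr 1
    refine RingHom.ext fun x => ?_
    rw [RingHom.comp_apply, MvPolynomial.map_map]
    congr 2
    exact RingHom.ext hσg
  let NS := MvPolynomial (Fin m) S ⊗[MvPolynomial (Fin m) R₀] M₀
  let eS : MvPolynomial (Fin m) S ⊗[MvPolynomial (Fin m) R₀'] M₀' ≃ₗ[MvPolynomial (Fin m) S] NS :=
    AlgebraTensorModule.cancelBaseChange (MvPolynomial (Fin m) R₀) (MvPolynomial (Fin m) R₀')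
      (MvPolynomial (Fin m) S) (MvPolynomial (Fin m) S) M₀
  let LS := LocalizedModule Q.primeCompl NS
  let ιS : NS →ₗ[MvPolynomial (Fin m) S] LS := LocalizedModule.mkLinearMap Q.primeCompl NS
  haveI : IsLocalizedModule Q.primeCompl (ιS ∘ₗ eS.toLinearMap) :=
    IsLocalizedModule.of_linearEquiv_right Q.primeCompl ιS eS
  haveI : Module.Flat S LS := hflat LS (ιS ∘ₗ eS.toLinearMap)
  let N₂' := MvPolynomial (Fin m) S₂ ⊗[MvPolynomial (Fin m) R₀] M₀
  let L₂' := LocalizedModule P₂'.primeCompl N₂'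
  let ι₂' : N₂' →ₗ[MvPolynomial (Fin m) S₂] L₂' := LocalizedModule.mkLinearMap P₂'.primeCompl N₂'
  haveI : Module.Flat S₂ L₂' := by
    haveI : IsLocalizedModule
        (P₂'.comap (MvPolynomial.map (algebraMap S S₂))).primeCompl ιS := by
      convert (inferInstance : IsLocalizedModule Q.primeCompl ιS) using 3
    exact flat_of_stage (LS := LS) (L := L₂') M₀ S S₂ P₂' ιS ι₂'
  let N₂ := MvPolynomial (Fin m) R₂ ⊗[MvPolynomial (Fin m) R₀] M₀
  let P₂ := P₂'.comap (MvPolynomial.map (algebraMap R₂ S₂))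
  haveI hflat₂ : Module.Flat R₂ (LocalizedModule P₂.primeCompl N₂) :=
    flat_of_localization_stage (LS := LocalizedModule P₂.primeCompl N₂) (L := L₂') M₀ R₂ S₂
      p₂.primeCompl P₂' ι₂'
      (LocalizedModule.mkLinearMap P₂.primeCompl N₂)
  have hP₂ : P₂ = P.comap (MvPolynomial.map (algebraMap R₂ R)) := by
    rw [← hP₁, Ideal.comap_comap]
    show (P₁.comap (MvPolynomial.map σ)).comap (MvPolynomial.map (algebraMap R₂ S₂)) = _
    rw [Ideal.comap_comap]
    congr 1
    refine RingHom.ext fun x => ?_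
    rw [RingHom.comp_apply, RingHom.comp_apply, MvPolynomial.map_map, MvPolynomial.map_map]
    congr 2
    exact RingHom.ext hσ
  haveI : Algebra.FiniteType R₂ (MvPolynomial (Fin m) R₂) := inferInstance
  haveI : Module.Finite (MvPolynomial (Fin m) R₂) N₂ := Module.Finite.base_change _ _ _
  refine ⟨R₂, inferInstance, inferInstance, inferInstance, inferInstance, inferInstance, hft₂,
    hinj₂, ?_⟩
  have key : ∀ (Q : Ideal (MvPolynomial (Fin m) R₂)) [Q.IsPrime], Q = P₂ →
      Module.Flat R₂ (LocalizedModule Q.primeCompl N₂) := by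
    rintro Q _ rfl
    exact hflat₂
  exact key _ hP₂.symm

end GrothLib.FlatModel
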